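import Cfsg.Agent.H86.EvenCase2

/-!
# The opposite case in characteristic two, without `FL ≤ H` (helper243, S2187; port of `H86.Par.even_case`)
-/

set_option autoImplicit false
set_option linter.unusedVariables false

namespace Cfsg.Agent.H243.TwOpp

open Cfsg.Lie Cfsg.Agent.ChevalleyStructure Cfsg.Agent.ChevalleyStructure.RootCombGood
  Cfsg.Agent.ChevalleyStructure.RootWord Cfsg.Agent.ChevalleyStructure.RootVec
  Cfsg.Agent.ChevalleyStructure.RootVecTab Cfsg.Agent.ChevalleyStructure.RootSupport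
  Cfsg.Agent.ChevalleyStructure.Elts Cfsg.Agent.ChevalleyStructure.BruhatSplit
  Cfsg.Agent.H86.Lev Cfsg.Agent.H86.Graded Cfsg.Agent.H92.ChevCent Cfsg.Agent.H92.ChevFrob
  Cfsg.Agent.LieClassical.SLTwoUnipotent Cfsg.Agent.H86.Par

open Matrix (SpecialLinearGroup)

open scoped Pointwise

universe u

variable {D : ChevalleyDatum} {F : Type u} [Field F]

/-- `n_a(1) x_{-a}(t) n_a(1)⁻¹ = x_a(-t)` -/
theorem nG_top_conj (hD : InList D) {l' : List ℤ} (N : HiN D l') (t : F) :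
    nG hD (top D) (1 : F) * xG hD 0 t * (nG hD (top D) (1 : F))⁻¹ = xG hD (top D) (-t) := by
  obtain ⟨φ, hφi, hφu, hφl⟩ := exists_phi hD N F
  have h1 : nG hD (top D) (1 : F) = φ (u 1 * (l (-1) * u 1)) := by
    rw [map_mul, map_mul, hφu, hφl, nG_def, neg_top hD, inv_one]
  rw [h1, ← hφl, ← map_inv, ← map_mul, ← map_mul, ← hφu]
  congr 1
  rw [mul_inv_eq_iff_eq_mul]
  apply Subtype.ext
  ext i j
  simp only [Matrix.SpecialLinearGroup.coe_mul, coe_u, coe_l]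
  fin_cases i <;> fin_cases j <;> simp [Matrix.mul_apply, Fin.sum_univ_two]

theorem fr_nG_one (hD : InList D) (f : F →+* F) (r : ℕ) : fr D f (nG hD r (1 : F)) = nG hD r 1 := by
  rw [nG_def, map_mul, map_mul, fr_xG, fr_xG, map_one, inv_one, map_neg, map_one]

/-- conjugates of `x_a(1)` opposite to `x_a(1)` and fixed: the conjugating element is fixed -/
theorem fixed_of_opp (hD : InList D) {l' : List ℤ} (N : HiN D l') {f : F →+* F} {H : Subgroup (GL D.Idx F)}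
    (hH : H ≤ D.group F) (S : GL D.Idx F → Prop) (hP : ∀ g ∈ H, g ∈ P F D → fr D f g = g)
    (hF : ∀ q ∈ Q D F (top D), S q → fr D f q = q → q ∈ H) (hn : nG hD (top D) 1 ∈ H) {g q : GL D.Idx F} (hg : g ∈ H)
    (hq : q ∈ Q D F (top D)) (hSq : S q) {t : F} (ht : t ≠ 0)
    (e : g * xG hD (top D) 1 * g⁻¹ = q⁻¹ * xG hD 0 t * q)
    (h : fr D f (g * xG hD (top D) 1 * g⁻¹) = g * xG hD (top D) 1 * g⁻¹) : fr D f g = g := by
  have hv : fr D f q * q⁻¹ ∈ Q D F (top D) := Subgroup.mul_mem _ (fr_mem_Q hD f hq) (Subgroup.inv_mem _ hq)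
  have h1 : (fr D f q)⁻¹ * xG hD 0 (f t) * fr D f q = q⁻¹ * xG hD 0 t * q := by
    rw [← e, ← h, e, map_mul, map_mul, map_inv, fr_xG]
  have h2 : fr D f q * q⁻¹ = 1 := by
    refine eq_one_of_conj hD (good hD) (hiT hD) hv (t₁ := t) (t₂ := f t) ht ?_
    rw [neg_top hD]
    calc fr D f q * q⁻¹ * xG hD 0 t = fr D f q * (q⁻¹ * xG hD 0 t * q) * q⁻¹ := by group
      _ = fr D f q * ((fr D f q)⁻¹ * xG hD 0 (f t) * fr D f q) * q⁻¹ := by rw [h1]
      _ = _ := by group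
  have h3 : fr D f q = q := mul_inv_eq_one.1 h2
  have hqH : q ∈ H := hF q hq hSq h3
  have h4 : nG hD (top D) 1 * q * g ∈ H := Subgroup.mul_mem _ (Subgroup.mul_mem _ hn hqH) hg
  have h5 : nG hD (top D) 1 * q * g ∈ P F D := by
    refine mem_P_of_conj hD (hH h4) (t := 1) (t' := -t) one_ne_zero ?_
    rw [← nG_top_conj hD N t]
    calc nG hD (top D) 1 * q * g * xG hD (top D) 1 * (nG hD (top D) 1 * q * g)⁻¹
        = nG hD (top D) 1 * q * (g * xG hD (top D) 1 * g⁻¹) * q⁻¹ * (nG hD (top D) 1)⁻¹ := by group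
      _ = nG hD (top D) 1 * q * (q⁻¹ * xG hD 0 t * q) * q⁻¹ * (nG hD (top D) 1)⁻¹ := by rw [e]
      _ = _ := by group
  have h6 := hP _ h4 h5
  rw [map_mul, map_mul, fr_nG_one, h3] at h6
  exact mul_left_cancel h6

/-- **The opposite case in characteristic two.** -/
theorem even_opp (hD : InList D) {isL : ℕ → Bool} (T : HiP D isL) {l' : List ℤ} (N : HiN D l') [CharP F 2]
    {f : F →+* F} {H : Subgroup (GL D.Idx F)} [Finite H] (hH : H ≤ D.group F) (S : GL D.Idx F → Prop)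
    (hA : ∀ u ∈ H, u ∈ D.posUnipotent F → fr D f u = u)
    (hC : ∀ g ∈ H, fr D f g = g ∨ ∃ q ∈ Q D F (top D), S q ∧ ∃ t : F, t ≠ 0 ∧
      g⁻¹ * xG hD (top D) 1 * g = q⁻¹ * xG hD 0 t * q)
    (hP : ∀ g ∈ H, g ∈ P F D → fr D f g = g)
    (hF : ∀ q ∈ Q D F (top D), S q → fr D f q = q → q ∈ H)
    (hx : xG hD (top D) 1 ∈ H) (hn : nG hD (top D) 1 ∈ H)
    (hT : ∃ t ∈ H, fr D f t = t ∧ t ∈ Q D F (top D) ∧ t ≠ 1 ∧ t * t = 1 ∧ ∃ m ∈ H,
      (t * (m⁻¹ * xG hD (top D) 1 * m)) ^ 6 = 1 ∧ (t * (m⁻¹ * xG hD (top D) 1 * m)) ^ 2 ≠ 1 ∧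
      (t * (m⁻¹ * xG hD (top D) 1 * m)) ^ 3 ≠ 1)
    (hCQ : ∀ s ∈ H, s ∈ D.posUnipotent F → (∀ q ∈ H, q ∈ Q D F (top D) → s * q = q * s) → s ∈ Q D F (top D))
    (hSyl : ∃ S₀ : Sylow 2 H, ∀ h : H, h ∈ S₀ ↔ (h : GL D.Idx F) ∈ D.posUnipotent F) :
    ∀ g ∈ H, fr D f g = g := by
  have hc := checked_of_mem hD
  have G := good hD
  by_contra hcon
  push Not at hcon
  obtain ⟨g₀, hg₀, hg₀'⟩ := hcon
  set M : Subgroup H := ((fr D f).eqLocus (MonoidHom.id _)).subgroupOf H with hM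
  have hMmem : ∀ h : H, h ∈ M ↔ fr D f (h : GL D.Idx F) = h := by
    intro h; rw [hM, Subgroup.mem_subgroupOf]; rfl
  set x : H := ⟨xG hD (top D) 1, hx⟩ with hxdef
  have hxx : x * x = 1 := Subtype.ext (x_sq hD (F := F) (top D) 1)
  have hx1 : x ≠ 1 := by
    intro h
    have h1 : xG hD (top D) (1 : F) = 1 := congrArg Subtype.val h
    exact one_ne_zero ((xG_eq_one_iff hD (top_lt hD) _).1 h1)
  have hxo : orderOf x = 2 := orderOf_eq_prime (by rw [pow_two]; exact hxx) hx1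
  obtain ⟨S₀, hS₀⟩ := hSyl
  set QH : Subgroup H := (Q D F (top D)).subgroupOf H with hQH
  have hQmem : ∀ h : H, h ∈ QH ↔ (h : GL D.Idx F) ∈ Q D F (top D) := fun h => Subgroup.mem_subgroupOf
  obtain ⟨t, htH, -, htQ, ht1, htt, m, hmH, h6, h2, h3⟩ := hT
  set t' : H := ⟨t, htH⟩ with ht'
  have hto : orderOf t' = 2 := by
    refine orderOf_eq_prime ?_ ?_
    · rw [pow_two]; exact Subtype.ext htt
    · intro h
      exact ht1 (congrArg Subtype.val h)
  have hopp : ∀ g : H, g ∉ M → ∃ q ∈ Q D F (top D), S q ∧ ∃ t : F, t ≠ 0 ∧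
      ((g * x * g⁻¹ : H) : GL D.Idx F) = q⁻¹ * xG hD 0 t * q := by
    intro g hg
    rcases hC _ (H.inv_mem g.2) with h | ⟨q, hq, hSq, t, ht, e⟩
    · exfalso
      apply hg
      rw [hMmem]
      rw [map_inv] at h
      exact inv_injective h
    · refine ⟨q, hq, hSq, t, ht, ?_⟩
      rw [← e]
      show (g : GL D.Idx F) * xG hD (top D) 1 * (g : GL D.Idx F)⁻¹ = _
      rw [inv_inv]
  have hconj := Cfsg.Agent.H86.OddTrans.isConj_of_mem (H := H) (M := M) ?_ hxo ?_ S₀ ?_ ?_ QH ?_ ?_ ?_ ?_ ?_ ?_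
    (t := t') ((hQmem _).2 htQ) hto
  · -- the contradiction
    rw [isConj_iff] at hconj
    obtain ⟨c, hce⟩ := hconj
    have hce' : (c : GL D.Idx F) * xG hD (top D) 1 * (c : GL D.Idx F)⁻¹ = t := congrArg Subtype.val hce
    obtain ⟨g, hgdef⟩ : ∃ g : GL D.Idx F, g = m * c := ⟨_, rfl⟩
    have hgG : g ∈ D.group F := by
      rw [hgdef]; exact Subgroup.mul_mem _ (hH hmH) (hH c.2)
    have e1 : t * (m⁻¹ * xG hD (top D) 1 * m) =
        (c : GL D.Idx F) * (xG hD (top D) 1 * (g⁻¹ * xG hD (top D) 1 * g)) * (c : GL D.Idx F)⁻¹ := by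
      rw [← hce', hgdef]; group
    set z := xG hD (top D) 1 * (g⁻¹ * xG hD (top D) 1 * g) with hz
    have hpow : ∀ n : ℕ, (t * (m⁻¹ * xG hD (top D) 1 * m)) ^ n = (c : GL D.Idx F) * z ^ n * (c : GL D.Idx F)⁻¹ := by
      intro n
      rw [e1, conj_pow]
    have hpow1 : ∀ n : ℕ, (t * (m⁻¹ * xG hD (top D) 1 * m)) ^ n = 1 ↔ z ^ n = 1 := by
      intro n
      rw [hpow n]
      constructor
      · intro h
        have := congrArg (fun w => (c : GL D.Idx F)⁻¹ * w * (c : GL D.Idx F)) h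
        simpa [mul_assoc] using this
      · intro h
        rw [h]; group
    rw [hpow1] at h6
    rw [Ne, hpow1] at h2 h3
    have hfin : 0 < orderOf z := orderOf_pos_iff.2 (isOfFinOrder_iff_pow_eq_one.2 ⟨6, by norm_num, h6⟩)
    rcases pair_order hD T N hgG hfin with h4 | h4
    · apply h2
      calc z ^ 2 = z ^ 6 * (z ^ 4)⁻¹ := by group
        _ = 1 := by rw [h6, h4]; group
    · have h5 : orderOf z ∣ 6 := orderOf_dvd_of_pow_eq_one h6
      have h7 : orderOf z ∣ 3 := by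
        have : Nat.Coprime (orderOf z) 2 := h4.coprime_two_right
        exact this.dvd_of_dvd_mul_left (show orderOf z ∣ 2 * 3 from h5)
      exact h3 (orderOf_dvd_iff_pow_eq_one.1 h7)
  · -- `M ≠ ⊤`
    intro h
    apply hg₀'
    have h1 : (⟨g₀, hg₀⟩ : H) ∈ M := by rw [h]; exact Subgroup.mem_top _
    exact (hMmem _).1 h1
  · rw [hMmem]
    show fr D f (xG hD (top D) 1) = xG hD (top D) 1
    rw [fr_xG, map_one]
  · rw [hS₀]; exact xG_mem_posUnipotent hD (pos_of_level hD (top_lt hD) (by rw [car_top hD]; norm_num)) 1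
  · intro s hs
    rw [hS₀] at hs
    exact Subtype.ext (pos_comm_top hD hs 1)
  · intro q hq
    rw [hS₀]
    exact Q_le_pos hD ((hQmem q).1 hq)
  · intro s hs q hq
    rw [hS₀] at hs
    rw [hQmem] at hq ⊢
    exact pos_conj_Q hD hs _ hq
  · intro s hs hcomm
    rw [hS₀] at hs
    rw [hQmem]
    refine hCQ s s.2 hs fun q hq hqQ => ?_
    exact congrArg Subtype.val (hcomm ⟨q, hq⟩ ((hQmem _).2 hqQ))
  · intro g hg
    by_contra hgM
    obtain ⟨q, hq, hSq, t, ht, e⟩ := hopp g hgM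
    rw [hMmem] at hg hgM
    exact hgM (fixed_of_opp hD N hH S hP hF hn g.2 hq hSq ht e hg)
  · intro g hg
    obtain ⟨q, hq, -, t, ht, e⟩ := hopp g hg
    have h4 : ((x * (g * x * g⁻¹) : H) : GL D.Idx F) = xG hD (top D) 1 * (q⁻¹ * xG hD 0 t * q) := by
      show xG hD (top D) 1 * ((g * x * g⁻¹ : H) : GL D.Idx F) = _
      rw [e]
    have h5 : orderOf (x * (g * x * g⁻¹)) = orderOf (xG hD (top D) 1 * (q⁻¹ * xG hD 0 t * q)) := by
      rw [← h4, Subgroup.orderOf_coe]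
    rw [h5]
    refine opp_odd hD N hq ht ?_
    rw [← h5]
    exact orderOf_pos _
  · intro g hg y hy hcomm
    obtain ⟨q, hq, -, t, ht, e⟩ := hopp g hg
    rw [hQmem] at hy
    have h4 : (y : GL D.Idx F) * ((g * x * g⁻¹ : H) : GL D.Idx F) = ((g * x * g⁻¹ : H) : GL D.Idx F) * y :=
      congrArg Subtype.val hcomm
    rw [e] at h4
    exact Subtype.ext (opp_comm hD (Q_le_pos hD hq) hy ht h4)

end Cfsg.Agent.H243.TwOpp
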